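import Groth.Agent.Lib.ClosedEmb25.Ab
import Groth.Agent.Lib.FlatRel25.Local
import Groth.Agent.Lib.SheafCoh.ModGroth
import Groth.Prelude.Def_ModSite

/-! # Modules and closed embeddings of ringed spaces -/

set_option autoImplicit false
set_option linter.all false
set_option maxHeartbeats 800000
set_option backward.isDefEq.respectTransparency false
set_option backward.isDefEq.respectTransparency.types false
universe u

open CategoryTheory CategoryTheory.Limits Opposite TopologicalSpace

noncomputable section

namespace GrothLib.ClosedEmbMod25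

variable {Z X : TopCat.{u}} (i : Z ⟶ X) (O_Z : TopCat.Sheaf CommRingCat.{u} Z) (O_X : TopCat.Sheaf CommRingCat.{u} X)
  (c : O_X ⟶ ((TopologicalSpace.Opens.map i).sheafPushforwardContinuous CommRingCat.{u}
    (Opens.grothendieckTopology X) (Opens.grothendieckTopology Z)).obj O_Z)

/-- The morphism of ringed sites. -/
abbrev mor : ModSite.RMor O_Z O_X := ModSite.RMor.ofFlat (TopologicalSpace.Opens.map i) c

/-- The ring map on sections. -/
def cmap (U : Opens X) : O_X.obj.obj (op U) →+* O_Z.obj.obj (op ((Opens.map i).obj U)) := (c.hom.app (op U)).hom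

theorem cmap_res {U U' : Opens X} (g : U' ⟶ U) (b : O_X.obj.obj (op U)) :
    cmap i O_Z O_X c U' (FlatRel25.resR g b) = FlatRel25.resR ((Opens.map i).map g) (cmap i O_Z O_X c U b) :=
  ConcreteCategory.congr_hom (c.hom.naturality g.op) b

variable {i O_Z O_X c}

theorem eq_of_cover {Y : TopCat.{u}} {O : TopCat.Sheaf CommRingCat.{u} Y} (G : ModSite.Mod O) {U : Opens Y}
    {S : Sieve U} (hS : S ∈ Opens.grothendieckTopology Y U) {a b : ModSite.sect G U}
    (h : ∀ ⦃U' : Opens Y⦄ (g : U' ⟶ U), S g → FlatRel25.res G g a = FlatRel25.res G g b) : a = b := by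
  have hG : Presheaf.IsSheaf (Opens.grothendieckTopology Y) (G.val.presheaf ⋙ forget AddCommGrpCat.{u}) :=
    ((sheafCompose (Opens.grothendieckTopology Y) (forget AddCommGrpCat.{u})).obj ⟨G.val.presheaf, G.isSheaf⟩).property
  exact (((isSheaf_iff_isSheaf_of_type _ _).1 hG).isSeparated S hS).ext fun V' g hg => h g hg

variable (i O_Z O_X c) in
/-- Sections killed by the kernel of the ring map annihilate the module. -/
def IsKilled (G : ModSite.Mod O_X) : Prop :=
  ∀ (U : Opens X) (a : O_X.obj.obj (op U)), cmap i O_Z O_X c U a = 0 → ∀ s : ModSite.sect G U, a • s = 0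

theorem smul_congr {G : ModSite.Mod O_X} (hG : IsKilled i O_Z O_X c G) {U : Opens X}
    {a b : O_X.obj.obj (op U)} (h : cmap i O_Z O_X c U a = cmap i O_Z O_X c U b) (s : ModSite.sect G U) :
    a • s = b • s := by
  rw [← sub_eq_zero, ← sub_smul]
  exact hG U (a - b) (by rw [map_sub, h, sub_self]) s

variable {G : ModSite.Mod O_X} {U : Opens X} {V : Opens Z} (h : (Opens.map i).obj U ≤ V)

/-- The scalar, restricted below a smaller open. -/
abbrev below {U' : Opens X} (g : U' ⟶ U) (a : O_Z.obj.obj (op V)) : O_Z.obj.obj (op ((Opens.map i).obj U')) :=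
  FlatRel25.resR ((Opens.map i).map g ≫ homOfLE h) a

variable (c) in
/-- `t` is the product of `a` and `s`. -/
def IsProd (a : O_Z.obj.obj (op V)) (s t : ModSite.sect G U) : Prop :=
  ∀ ⦃U' : Opens X⦄ (g : U' ⟶ U) (b : O_X.obj.obj (op U')), cmap i O_Z O_X c U' b = below h g a →
    FlatRel25.res G g t = b • FlatRel25.res G g s

variable (c) in
/-- Where the scalar lifts. -/
def liftSieve (a : O_Z.obj.obj (op V)) : Sieve U where
  arrows U' g := ∃ b : O_X.obj.obj (op U'), cmap i O_Z O_X c U' b = below h g a
  downward_closed := fun {U' U'' g} ⟨b, hb⟩ k => ⟨FlatRel25.resR k b, by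
    rw [cmap_res, hb]
    exact FlatRel25.resR_resR _ _ _⟩

theorem liftSieve_mem (hc : Sheaf.IsLocallySurjective c) (a : O_Z.obj.obj (op V)) :
    liftSieve c h a ∈ Opens.grothendieckTopology X U := by
  have : Presheaf.IsLocallySurjective (Opens.grothendieckTopology X) c.hom := hc
  refine (Opens.grothendieckTopology X).superset_covering ?_ (Presheaf.imageSieve_mem _ c.hom (U := op U)
    (show ((((Opens.map i).sheafPushforwardContinuous CommRingCat.{u} (Opens.grothendieckTopology X)
      (Opens.grothendieckTopology Z)).obj O_Z).obj.obj (op U)) from FlatRel25.resR (O := O_Z) (homOfLE h) a))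
  rintro U' g ⟨b, hb⟩
  exact ⟨b, hb.trans (FlatRel25.resR_resR (O := O_Z) (homOfLE h) ((Opens.map i).map g) a)⟩

theorem prod_unique (hc : Sheaf.IsLocallySurjective c) {a : O_Z.obj.obj (op V)} {s t t' : ModSite.sect G U}
    (ht : IsProd c h a s t) (ht' : IsProd c h a s t') : t = t' :=
  eq_of_cover G (liftSieve_mem h hc a) fun U' g ⟨b, hb⟩ => (ht g b hb).trans (ht' g b hb).symm

theorem exists_prod (hc : Sheaf.IsLocallySurjective c) (hG : IsKilled i O_Z O_X c G)
    (a : O_Z.obj.obj (op V)) (s : ModSite.sect G U) : ∃ t, IsProd c h a s t := by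
  classical
  have hS := liftSieve_mem h hc a
  let P := G.val.presheaf ⋙ forget AddCommGrpCat.{u}
  have hP : Presieve.IsSheaf (Opens.grothendieckTopology X) P := (isSheaf_iff_isSheaf_of_type _ _).1
    ((sheafCompose (Opens.grothendieckTopology X) (forget AddCommGrpCat.{u})).obj ⟨G.val.presheaf, G.isSheaf⟩).property
  let fam : Presieve.FamilyOfElements P (liftSieve c h a).arrows := fun U' g hg => hg.choose • FlatRel25.res G g s
  have hfam : fam.Compatible := by
    intro Y₁ Y₂ W k₁ k₂ g₁ g₂ h₁ h₂ hk
    change FlatRel25.res G k₁ (h₁.choose • FlatRel25.res G g₁ s) = FlatRel25.res G k₂ (h₂.choose • FlatRel25.res G g₂ s)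
    rw [FlatRel25.res_smul, FlatRel25.res_smul, FlatRel25.res_res, FlatRel25.res_res, hk]
    refine smul_congr hG ?_ _
    rw [cmap_res, cmap_res, h₁.choose_spec, h₂.choose_spec]
    exact (FlatRel25.resR_resR _ _ _).trans (Eq.trans (congrArg (fun e => FlatRel25.resR e a) (Subsingleton.elim _ _))
      (FlatRel25.resR_resR _ _ _).symm)
  obtain ⟨t, ht, -⟩ := hP (liftSieve c h a) hS fam hfam
  refine ⟨t, fun U' g b hb => ?_⟩
  refine (ht g ⟨b, hb⟩).trans ?_
  exact smul_congr hG ((⟨b, hb⟩ : ∃ b, cmap i O_Z O_X c U' b = below h g a).choose_spec.trans hb.symm) _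

section act

variable (hc : Sheaf.IsLocallySurjective c) (hG : IsKilled i O_Z O_X c G)

/-- The product. -/
def act (a : O_Z.obj.obj (op V)) (s : ModSite.sect G U) : ModSite.sect G U := (exists_prod h hc hG a s).choose

theorem act_spec (a : O_Z.obj.obj (op V)) (s : ModSite.sect G U) : IsProd c h a s (act h hc hG a s) :=
  (exists_prod h hc hG a s).choose_spec

theorem act_eq {a : O_Z.obj.obj (op V)} {s t : ModSite.sect G U} (ht : IsProd c h a s t) : act h hc hG a s = t :=
  prod_unique h hc (act_spec h hc hG a s) ht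

theorem act_one (s : ModSite.sect G U) : act h hc hG (1 : O_Z.obj.obj (op V)) s = s := by
  refine act_eq h hc hG fun U' g b hb => ?_
  refine ((smul_congr hG ?_ _).trans (one_smul (O_X.obj.obj (op U')) _)).symm
  rw [hb, map_one]
  exact map_one _

theorem act_mul (a a' : O_Z.obj.obj (op V)) (s : ModSite.sect G U) :
    act h hc hG (a * a') s = act h hc hG a (act h hc hG a' s) := by
  refine act_eq h hc hG fun U' g b hb => ?_
  refine eq_of_cover G ((Opens.grothendieckTopology X).intersection_covering
    ((Opens.grothendieckTopology X).pullback_stable g (liftSieve_mem h hc a))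
    ((Opens.grothendieckTopology X).pullback_stable g (liftSieve_mem h hc a'))) fun U'' k hk => ?_
  obtain ⟨⟨b₁, hb₁⟩, ⟨b₂, hb₂⟩⟩ := hk
  rw [FlatRel25.res_smul, FlatRel25.res_res, FlatRel25.res_res]
  rw [act_spec h hc hG a _ _ b₁ hb₁, act_spec h hc hG a' _ _ b₂ hb₂, ← mul_smul]
  refine smul_congr hG ?_ _
  rw [map_mul, cmap_res, hb, hb₁, hb₂]
  refine Eq.trans ?_ (FlatRel25.resR_resR _ _ _).symm
  exact (map_mul _ a a').symm

theorem act_add_right (a : O_Z.obj.obj (op V)) (s s' : ModSite.sect G U) :
    act h hc hG a (s + s') = act h hc hG a s + act h hc hG a s' := by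
  refine act_eq h hc hG fun U' g b hb => ?_
  rw [map_add, map_add, smul_add, act_spec h hc hG a s g b hb, act_spec h hc hG a s' g b hb]

theorem act_add_left (a a' : O_Z.obj.obj (op V)) (s : ModSite.sect G U) :
    act h hc hG (a + a') s = act h hc hG a s + act h hc hG a' s := by
  refine act_eq h hc hG fun U' g b hb => ?_
  refine eq_of_cover G ((Opens.grothendieckTopology X).intersection_covering
    ((Opens.grothendieckTopology X).pullback_stable g (liftSieve_mem h hc a))
    ((Opens.grothendieckTopology X).pullback_stable g (liftSieve_mem h hc a'))) fun U'' k hk => ?_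
  obtain ⟨⟨b₁, hb₁⟩, ⟨b₂, hb₂⟩⟩ := hk
  rw [FlatRel25.res_smul, FlatRel25.res_res, FlatRel25.res_res, map_add]
  rw [act_spec h hc hG a _ _ b₁ hb₁, act_spec h hc hG a' _ _ b₂ hb₂, ← add_smul]
  refine smul_congr hG ?_ _
  rw [map_add, cmap_res, hb, hb₁, hb₂]
  refine Eq.trans ?_ (FlatRel25.resR_resR _ _ _).symm
  exact (map_add _ a a').symm

theorem act_res {U₁ : Opens X} {V₁ : Opens Z} (h₁ : (Opens.map i).obj U₁ ≤ V₁) (g : U₁ ⟶ U) (k : V₁ ⟶ V)
    (a : O_Z.obj.obj (op V)) (s : ModSite.sect G U) :
    FlatRel25.res G g (act h hc hG a s) = act h₁ hc hG (FlatRel25.resR k a) (FlatRel25.res G g s) := by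
  refine (act_eq h₁ hc hG fun U' g' b hb => ?_).symm
  rw [FlatRel25.res_res, FlatRel25.res_res]
  refine act_spec h hc hG a s (g' ≫ g) b ?_
  exact hb.trans ((FlatRel25.resR_resR _ _ _).trans (congrArg (fun e => FlatRel25.resR e a) (Subsingleton.elim _ _)))

theorem act_cmap (b : O_X.obj.obj (op U)) (s : ModSite.sect G U) :
    act (le_refl _) hc hG (cmap i O_Z O_X c U b) s = b • s := by
  refine act_eq _ hc hG fun U' g b' hb' => ?_
  rw [FlatRel25.res_smul]
  refine smul_congr hG ?_ _
  rw [cmap_res, hb']
  exact congrArg (fun e => FlatRel25.resR e _) (Subsingleton.elim _ _)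

end act

/-! ### The direct image -/

variable (i) in
/-- The largest open with given preimage. -/
def big (hi : Topology.IsClosedEmbedding i) (V : Opens Z) : Opens X :=
  ⟨(i '' (V : Set Z)ᶜ)ᶜ, (hi.isClosedMap _ V.isOpen.isClosed_compl).isOpen_compl⟩

theorem mem_big (hi : Topology.IsClosedEmbedding i) {V : Opens Z} {z : Z} : i z ∈ big i hi V ↔ z ∈ V := by
  change ¬ (i z ∈ i '' (V : Set Z)ᶜ) ↔ _
  rw [hi.injective.mem_set_image]
  simp

theorem map_big (hi : Topology.IsClosedEmbedding i) (V : Opens Z) : (Opens.map i).obj (big i hi V) = V :=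
  Opens.ext (Set.ext fun _ => mem_big hi)

theorem big_mono (hi : Topology.IsClosedEmbedding i) {V W : Opens Z} (h : V ≤ W) : big i hi V ≤ big i hi W :=
  Set.compl_subset_compl.2 (Set.image_mono (Set.compl_subset_compl.2 h))

theorem le_big (hi : Topology.IsClosedEmbedding i) (U : Opens X) : U ≤ big i hi ((Opens.map i).obj U) := by
  rintro x hx ⟨z, hz, rfl⟩
  exact hz hx

variable (i) in
/-- The functor of largest opens. -/
def bigFun (hi : Topology.IsClosedEmbedding i) : Opens Z ⥤ Opens X where
  obj := big i hi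
  map g := homOfLE (big_mono hi g.le)

theorem isZero_stalk_of_killed (hi : Topology.IsClosedEmbedding i) (hG : IsKilled i O_Z O_X c G) {x : X}
    (hx : x ∉ Set.range i) : IsZero (CohTop.stalk ((SheafOfModules.toSheaf (ModSite.ringSh O_X)).obj G) x) := by
  refine (ClosedEmb.isZero_iff_unique _).1 (ClosedEmb.unique_stalk_of_forall AddCommGrpCat.{u} _ x
    ⟨(Set.range i)ᶜ, hi.isClosed_range.isOpen_compl⟩ hx fun W hW => ?_)
  have he : (Opens.map i).obj W = ⊥ := eq_bot_iff.2 fun z hz => hW hz ⟨z, rfl⟩
  have hs : Subsingleton (O_Z.obj.obj (op ((Opens.map i).obj W))) := by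
    obtain ⟨u⟩ := ClosedEmb.subsingleton_of_isTerminal CommRingCat.{u} (TopCat.Sheaf.isTerminalOfEqEmpty O_Z he)
    exact u.instSubsingleton
  refine ⟨⟨⟨0⟩, fun (s : ModSite.sect G W) => ?_⟩⟩
  exact (one_smul (O_X.obj.obj (op W)) s).symm.trans (hG W 1 (Subsingleton.elim _ _) s)

theorem bijective_res_big (hi : Topology.IsClosedEmbedding i) (hG : IsKilled i O_Z O_X c G) {U U' : Opens X}
    (g : U' ⟶ U) (he : (Opens.map i).obj U' = (Opens.map i).obj U) : Function.Bijective (FlatRel25.res G g) := by
  let A := (SheafOfModules.toSheaf (ModSite.ringSh O_X)).obj G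
  let adj := TopCat.Sheaf.pullbackPushforwardAdjunction AddCommGrpCat.{u} i
  have : IsIso (adj.unit.app A) := ClosedEmb.isIso_unit_ab hi A fun x hx => isZero_stalk_of_killed hi hG hx
  let η := (adj.unit.app A).hom
  have hη : ∀ W, IsIso (η.app W) := fun W =>
    inferInstanceAs (IsIso (((sheafToPresheaf _ AddCommGrpCat.{u}).map (adj.unit.app A)).app W))
  have : IsIso ((Opens.map i).map g) := by
    have : (Opens.map i).map g = eqToHom he := Subsingleton.elim _ _
    rw [this]; infer_instance
  have hn := η.naturality g.op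
  have : IsIso (((CohTop.push i).obj ((CohTop.pull i).obj A)).obj.map g.op) :=
    inferInstanceAs (IsIso (((CohTop.pull i).obj A).obj.map ((Opens.map i).map g).op))
  have : IsIso (A.obj.map g.op) := by
    have h2 : IsIso (A.obj.map g.op ≫ η.app (op U')) := by
      refine (congrArg IsIso hn).mpr ?_
      exact @IsIso.comp_isIso _ _ _ _ _ _ _ (hη _) this
    exact @IsIso.of_isIso_comp_right _ _ _ _ _ _ (η.app (op U')) (hη _) h2
  exact ConcreteCategory.bijective_of_isIso (A.obj.map g.op)

section build

variable (hi : Topology.IsClosedEmbedding i) (hc : Sheaf.IsLocallySurjective c) (hG : IsKilled i O_Z O_X c G)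

/-- The underlying presheaf of the descended module. -/
abbrev descAb : (Opens Z)ᵒᵖ ⥤ AddCommGrpCat.{u} := (bigFun i hi).op ⋙ G.val.presheaf

include hi hc hG in
/-- The module on the subspace. -/
theorem exists_push_iso : (mor i O_Z O_X c).push.essImage G := by
  let M := descAb (G := G) hi
  letI inst : ∀ V : (Opens Z)ᵒᵖ, Module ((O_Z.obj ⋙ forget₂ CommRingCat.{u} RingCat.{u}).obj V) (M.obj V) := fun V =>
    { smul := fun a s => act (map_big hi V.unop).le hc hG a s
      one_smul := fun s => act_one _ hc hG s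
      mul_smul := fun a a' s => act_mul _ hc hG a a' s
      smul_add := fun a s s' => act_add_right _ hc hG a s s'
      add_smul := fun a a' s => act_add_left _ hc hG a a' s
      smul_zero := fun a => (AddMonoidHom.mk' (act (map_big hi V.unop).le hc hG a)
        (act_add_right (map_big hi V.unop).le hc hG a)).map_zero
      zero_smul := fun s => (AddMonoidHom.mk' (fun a => act (map_big hi V.unop).le hc hG a s)
        fun a a' => act_add_left (map_big hi V.unop).le hc hG a a' s).map_zero }
  let P : PresheafOfModules.{u} (O_Z.obj ⋙ forget₂ CommRingCat.{u} RingCat.{u}) :=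
    PresheafOfModules.ofPresheaf M fun {V W} k a s =>
      act_res (map_big hi V.unop).le hc hG (map_big hi W.unop).le ((bigFun i hi).map k.unop) k.unop a s
  have hP : Presheaf.IsSheaf (Opens.grothendieckTopology Z) M := by
    let A := (SheafOfModules.toSheaf (ModSite.ringSh O_X)).obj G
    let adj := TopCat.Sheaf.pullbackPushforwardAdjunction AddCommGrpCat.{u} i
    have : IsIso (adj.unit.app A) := ClosedEmb.isIso_unit_ab hi A fun x hx => isZero_stalk_of_killed hi hG hx
    let e : A.obj ≅ (Opens.map i).op ⋙ ((CohTop.pull i).obj A).obj :=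
      (sheafToPresheaf _ AddCommGrpCat.{u}).mapIso (asIso (adj.unit.app A))
    refine (Presheaf.isSheaf_of_iso_iff ?_).2 ((CohTop.pull i).obj A).property
    exact Functor.isoWhiskerLeft (bigFun i hi).op e ≪≫
      NatIso.ofComponents (fun V => ((CohTop.pull i).obj A).obj.mapIso (eqToIso (map_big hi V.unop)).op.symm)
        (fun {V W} k => by
          simp only [Functor.comp_map, Functor.mapIso_hom, ← Functor.map_comp]
          exact congrArg ((CohTop.pull i).obj A).obj.map (Subsingleton.elim _ _))
  let H : ModSite.Mod O_Z := ⟨P, hP⟩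
  let f : ∀ U : (Opens X)ᵒᵖ, ((mor i O_Z O_X c).push.obj H).val.obj U →ₗ[(ModSite.ringSh O_X).obj.obj U] G.val.obj U :=
    fun U =>
      { toFun := fun s => FlatRel25.res G (homOfLE (le_big hi U.unop)) (show ModSite.sect G _ from s)
        map_add' := fun s s' => map_add (FlatRel25.res G (homOfLE (le_big hi U.unop))) _ _
        map_smul' := fun b s => by
          change FlatRel25.res G (homOfLE (le_big hi U.unop))
              (act (map_big hi ((Opens.map i).obj U.unop)).le hc hG (cmap i O_Z O_X c U.unop b)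
                (show ModSite.sect G _ from s)) = _
          rw [act_res _ hc hG (le_refl _) _ (𝟙 _)]
          refine Eq.trans ?_ (act_cmap hc hG b _)
          refine congrArg (fun t => act _ hc hG t _) ?_
          exact ConcreteCategory.congr_hom (O_Z.obj.map_id _) _ }
  have hf : ∀ U, Function.Bijective (f U) := fun U => bijective_res_big hi hG _ (map_big hi _).symm
  refine ⟨H, ⟨(SheafOfModules.fullyFaithfulForget _).preimageIso
    (PresheafOfModules.isoMk (fun U => (LinearEquiv.ofBijective (f U) (hf U)).toModuleIso) fun U U' k => ?_)⟩⟩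
  refine ModuleCat.hom_ext (LinearMap.ext fun (s : ModSite.sect G (big i hi ((Opens.map i).obj U.unop))) => ?_)
  exact ((FlatRel25.res_res G _ _ s).trans (congrArg (fun e => FlatRel25.res G e s) (Subsingleton.elim _ _))).trans
    (FlatRel25.res_res G _ _ s).symm

end build

variable (i O_Z O_X c) in
/-- Direct image commutes with forgetting the scalars. -/
def pushToSheafIso : (mor i O_Z O_X c).push ⋙ SheafOfModules.toSheaf (ModSite.ringSh O_X) ≅
    SheafOfModules.toSheaf (ModSite.ringSh O_Z) ⋙ CohTop.push i := Iso.refl _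

theorem faithful_push (hi : Topology.IsClosedEmbedding i) : (mor i O_Z O_X c).push.Faithful := by
  have : (CohTop.push i).Faithful := ClosedEmb.faithful hi.isInducing
  have : ((mor i O_Z O_X c).push ⋙ SheafOfModules.toSheaf (ModSite.ringSh O_X)).Faithful :=
    Functor.Faithful.of_iso (pushToSheafIso i O_Z O_X c).symm
  exact Functor.Faithful.of_comp _ (SheafOfModules.toSheaf (ModSite.ringSh O_X))

theorem preservesFiniteColimits_push (hi : Topology.IsClosedEmbedding i) :
    PreservesFiniteColimits (mor i O_Z O_X c).push := by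
  have := ClosedEmb.preservesFiniteColimits_push hi
  have := SheafCoh.preservesColimitsOfSize_toSheaf.{u} (ModSite.ringSh O_Z)
  have : PreservesFiniteColimits (SheafOfModules.toSheaf (ModSite.ringSh O_Z)) :=
    PreservesColimitsOfSize.preservesFiniteColimits.{u, u} _
  have := SheafCoh.preservesColimitsOfSize_toSheaf.{u} (ModSite.ringSh O_X)
  have : PreservesFiniteColimits (SheafOfModules.toSheaf (ModSite.ringSh O_X)) :=
    PreservesColimitsOfSize.preservesFiniteColimits.{u, u} _
  have : PreservesFiniteColimits ((mor i O_Z O_X c).push ⋙ SheafOfModules.toSheaf (ModSite.ringSh O_X)) := by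
    have := comp_preservesFiniteColimits (SheafOfModules.toSheaf (ModSite.ringSh O_Z)) (CohTop.push i)
    exact preservesFiniteColimits_of_natIso (pushToSheafIso i O_Z O_X c).symm
  refine ⟨fun K _ _ => ?_⟩
  have : ReflectsColimitsOfShape K (SheafOfModules.toSheaf (ModSite.ringSh O_X)) :=
    reflectsColimitsOfShape_of_reflectsIsomorphisms
  exact preservesColimitsOfShape_of_reflects_of_preserves _ (SheafOfModules.toSheaf (ModSite.ringSh O_X))

theorem full_push (hi : Topology.IsClosedEmbedding i) (hc : Sheaf.IsLocallySurjective c) :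
    (mor i O_Z O_X c).push.Full := by
  refine ⟨fun {F F'} α => ?_⟩
  have : (CohTop.push i).Full := ClosedEmb.full hi.isInducing
  obtain ⟨β, hβ⟩ := (CohTop.push i).map_surjective
    (X := (SheafOfModules.toSheaf (ModSite.ringSh O_Z)).obj F) (Y := (SheafOfModules.toSheaf (ModSite.ringSh O_Z)).obj F')
    ((SheafOfModules.toSheaf (ModSite.ringSh O_X)).map α)
  let b : ∀ W : Opens Z, ModSite.sect F W →+ ModSite.sect F' W := fun W => (β.hom.app (op W)).hom
  have hnat : ∀ {W W' : Opens Z} (g : W' ⟶ W) (s : ModSite.sect F W),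
      b W' (FlatRel25.res F g s) = FlatRel25.res F' g (b W s) :=
    fun g s => ConcreteCategory.congr_hom (β.hom.naturality g.op) s
  have hα : ∀ (U : Opens X) (s : ModSite.sect F ((Opens.map i).obj U)),
      b ((Opens.map i).obj U) s = α.val.app (op U) s := fun U s =>
    ConcreteCategory.congr_hom (NatTrans.congr_app (congrArg (fun t => t.hom) hβ) (op U)) s
  have hlin : ∀ (W : Opens Z) (a : O_Z.obj.obj (op W)) (s : ModSite.sect F W), b W (a • s) = a • b W s := by
    intro W a s
    let hW : (Opens.map i).obj (big i hi W) ≤ W := (map_big hi W).le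
    let R : Sieve W :=
      { arrows := fun W' g => ∃ (U' : Opens X) (k : U' ⟶ big i hi W) (_ : W' ⟶ (Opens.map i).obj U')
          (b' : O_X.obj.obj (op U')), cmap i O_Z O_X c U' b' = below hW k a
        downward_closed := fun {W' W'' g} ⟨U', k, e, b', hb'⟩ m => ⟨U', k, m ≫ e, b', hb'⟩ }
    have hR : R ∈ Opens.grothendieckTopology Z W := by
      intro z hz
      obtain ⟨U', k, hk, hzU⟩ := liftSieve_mem hW hc a (i z) ((mem_big hi).2 hz)
      obtain ⟨b', hb'⟩ := hk
      exact ⟨(Opens.map i).obj U', (Opens.map i).map k ≫ homOfLE hW, ⟨U', k, 𝟙 _, b', hb'⟩, hzU⟩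
    refine eq_of_cover F' hR fun W' g hg => ?_
    obtain ⟨U', k, e, b', hb'⟩ := hg
    have hg : g = e ≫ (Opens.map i).map k ≫ homOfLE hW := Subsingleton.elim _ _
    rw [hg]
    refine (FlatRel25.res_res F' ((Opens.map i).map k ≫ homOfLE hW) e _).symm.trans (Eq.trans
      (congrArg (FlatRel25.res F' e) ?_) (FlatRel25.res_res F' ((Opens.map i).map k ≫ homOfLE hW) e _))
    rw [← hnat, FlatRel25.res_smul, FlatRel25.res_smul, hα, ← hnat, hα]
    have hab : ∀ s' : ModSite.sect F ((Opens.map i).obj U'),
        α.val.app (op U') (show ModSite.sect ((mor i O_Z O_X c).push.obj F) U' from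
            (below hW k a • s' : ModSite.sect F ((Opens.map i).obj U'))) =
          (below hW k a • (show ModSite.sect F' ((Opens.map i).obj U') from α.val.app (op U') s') :
            ModSite.sect F' ((Opens.map i).obj U')) := by
      intro s'
      rw [← hb']
      exact (α.val.app (op U')).hom.map_smul b' s'
    exact hab _
  let γ : F.val ⟶ F'.val := PresheafOfModules.homMk β.hom fun W a s => hlin W.unop a s
  refine ⟨⟨γ⟩, ?_⟩
  apply SheafOfModules.hom_ext
  refine PresheafOfModules.hom_ext fun U => ModuleCat.hom_ext (LinearMap.ext fun s => ?_)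
  exact hα U.unop s

theorem isKilled_of_iso {H : ModSite.Mod O_Z} (e : (mor i O_Z O_X c).push.obj H ≅ G) :
    IsKilled i O_Z O_X c G := by
  intro U a ha s
  have h1 : e.hom.val.app (op U) (e.inv.val.app (op U) s) = s :=
    congrArg (fun k => k.val.app (op U) s) e.inv_hom_id
  rw [← h1]
  refine ((e.hom.val.app (op U)).hom.map_smul a _).symm.trans ?_
  refine (congrArg (e.hom.val.app (op U)) ?_).trans (map_zero _)
  change cmap i O_Z O_X c U a • (show ModSite.sect H ((Opens.map i).obj U) from e.inv.val.app (op U) s) = 0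
  rw [ha, zero_smul]

end GrothLib.ClosedEmbMod25
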